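import Cfsg.Agent.Lead.S3fBr3

/-!
S4306 (bridge): a nilpotent subgroup normalized by an elementary abelian normal `p`-subgroup `V`
acts on `V` through a `p`-group.
-/

set_option autoImplicit false
set_option linter.style.haveILetI false
set_option linter.unusedSectionVars false

namespace Cfsg.Agent.Helper9.FpqBr

open Cfsg.Agent.Lead.S3F

universe u

open scoped commutatorElement

variable {Γ : Type*} [Group Γ]

/-- a nilpotent subgroup normalized by an elementary abelian normal `p`-subgroup `V` acts on `V`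
through a `p`-group. -/
theorem isPGroup_map_conjNormal [Finite Γ] (V : Subgroup Γ) [hVn : V.Normal] {p : ℕ}
    [hp : Fact p.Prime] (hVc : ∀ a ∈ V, ∀ b ∈ V, a * b = b * a) (hVp : ∀ v ∈ V, v ^ p = 1)
    (K : Subgroup Γ) (hVK : V ≤ Subgroup.normalizer (K : Set Γ))
    (hnil : ∃ c : ℕ, K.lowerCentralSeries c = ⊥) :
    IsPGroup p (K.map (MulAut.conjNormal : Γ →* MulAut V)) := by
  obtain ⟨c, hc⟩ := hnil
  have hVpg : IsPGroup p V := fun v => ⟨1, by
    rw [pow_one]
    apply Subtype.ext
    rw [Subgroup.coe_pow, Subgroup.coe_one]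
    exact hVp v v.2⟩
  obtain ⟨m, hm⟩ := (IsPGroup.iff_card).1 hVpg
  have hcent : ∀ z ∈ K, ∀ n : ℕ, n.Coprime p → z ^ n = 1 → ∀ v ∈ V, z * v * z⁻¹ = v := by
    intro z hz n hn hzn
    obtain ⟨Y, hY⟩ : ∃ Y : Subgroup Γ, Y = Subgroup.zpowers z := ⟨_, rfl⟩
    have hzY : z ∈ Y := by rw [hY]; exact Subgroup.mem_zpowers z
    have hYK : Y ≤ K := by rw [hY]; exact Subgroup.zpowers_le.2 hz
    have hYV : Y ≤ Subgroup.normalizer (V : Set Γ) := by
      rw [Subgroup.normalizer_eq_top]; exact le_top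
    have hcop : (Nat.card Y).Coprime (Nat.card V) := by
      rw [hY, Nat.card_zpowers, hm]
      exact Nat.Coprime.pow_right m
        (Nat.Coprime.coprime_dvd_left (orderOf_dvd_of_pow_eq_one hzn) hn)
    have hVsolv : Group.IsSolvable V :=
      Group.isSolvable_of_comm (fun a b => Subtype.ext (hVc a a.2 b b.2))
    have hcc := Cfsg.Agent.Helper1.coprime_commutator_commutator Y V hYV hcop (Or.inr hVsolv)
    obtain ⟨M, hM⟩ : ∃ M : Subgroup Γ, M = ⁅V, Y⁆ := ⟨_, rfl⟩
    rw [← hM] at hcc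
    have hMK : M ≤ K := by
      rw [hM, Subgroup.commutator_le]
      intro v hv y hy
      rw [commutatorElement_def]
      exact K.mul_mem (conj_mem_of_mem_normalizer' (hVK hv) (hYK hy)) (K.inv_mem (hYK hy))
    have hMl : ∀ i, M ≤ K.lowerCentralSeries i := by
      intro i
      induction i with
      | zero => exact hMK
      | succ i ih =>
        rw [Subgroup.lowerCentralSeries_succ]
        calc M = ⁅M, Y⁆ := hcc.symm
          _ ≤ ⁅K.lowerCentralSeries i, K⁆ := Subgroup.commutator_mono ih hYK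
    have hMbot : M = ⊥ := by
      have := hMl c
      rwa [hc, le_bot_iff] at this
    intro v hv
    have h1 : ⁅v, z⁆ ∈ M := by
      rw [hM]; exact Subgroup.commutator_mem_commutator hv hzY
    rw [hMbot, Subgroup.mem_bot, commutatorElement_eq_one_iff_commute] at h1
    have h2 : v * z = z * v := h1
    rw [← h2]; group
  rintro ⟨x, y, hy, rfl⟩
  obtain ⟨e, n', hnd, hord⟩ := Nat.exists_eq_pow_mul_and_not_dvd (orderOf_pos y).ne' p
    hp.out.ne_one
  have hn' : n'.Coprime p := ((Nat.Prime.coprime_iff_not_dvd hp.out).2 hnd).symm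
  have hz : y ^ (p ^ e) ∈ K := K.pow_mem hy _
  have hzn : (y ^ (p ^ e)) ^ n' = 1 := by
    rw [← pow_mul, ← hord, pow_orderOf_eq_one]
  have h1 := hcent _ hz n' hn' hzn
  refine ⟨e, ?_⟩
  apply Subtype.ext
  rw [Subgroup.coe_pow, Subgroup.coe_one]
  change (MulAut.conjNormal y : MulAut V) ^ (p ^ e) = 1
  rw [← map_pow]
  ext v
  rw [MulAut.conjNormal_apply, MulAut.one_apply]
  exact h1 v v.2

end Cfsg.Agent.Helper9.FpqBr
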