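import Cfsg.Agent.Lead.S3fBr1

/-!
S4306 (bridge): the base change of an elementary abelian `p`-group to a finite-dimensional module
over the algebraic closure of the prime field.
-/

set_option autoImplicit false
set_option linter.style.haveILetI false
set_option linter.unusedSectionVars false

namespace Cfsg.Agent.Helper9.FpqBr

open scoped TensorProduct
open Cfsg.Agent.Lead.S3F

universe u

/-- the linearization, for a module structure given in advance. -/
theorem exists_rep_aux (p : ℕ) [hp : Fact p.Prime] (V : Type u) [CommGroup V] [Finite V]
    [Module (ZMod p) (Additive V)] :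
    ∃ (W : Type u) (_ : AddCommGroup W) (_ : Module (AlgebraicClosure (ZMod p)) W)
      (_ : Module.Finite (AlgebraicClosure (ZMod p)) W)
      (ρ : Representation (AlgebraicClosure (ZMod p)) (MulAut V) W),
      (∀ x : MulAut V, ρ x = 1 → x = 1) ∧
      (∀ S : Set (MulAut V), (∀ v : V, (∀ x ∈ S, x v = v) → v = 1) →
        ∀ w : W, (∀ x ∈ S, ρ x w = w) → w = 0) := by
  let ρ₀ : MulAut V →* Module.End (ZMod p) (Additive V) :=
    { toFun := fun x => (MonoidHom.toAdditive x.toMonoidHom).toZModLinearMap p
      map_one' := by
        refine LinearMap.ext fun v => ?_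
        rfl
      map_mul' := by
        intro x y
        refine LinearMap.ext fun v => ?_
        rfl }
  have hρ₀ : ∀ (x : MulAut V) (v : V), ρ₀ x (Additive.ofMul v) = Additive.ofMul (x v) :=
    fun x v => rfl
  let bc : Module.End (ZMod p) (Additive V) →*
      Module.End (AlgebraicClosure (ZMod p)) (AlgebraicClosure (ZMod p) ⊗[ZMod p] Additive V) :=
    (Module.End.baseChangeHom (ZMod p) (AlgebraicClosure (ZMod p)) (Additive V) :
      Module.End (ZMod p) (Additive V) →ₐ[ZMod p] _)
  have hbc : ∀ f, bc f = f.baseChange (AlgebraicClosure (ZMod p)) := fun f => rfl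
  haveI : Finite (Additive V) := inferInstanceAs (Finite V)
  haveI : Module.Finite (ZMod p) (Additive V) := Module.Finite.of_finite
  refine ⟨AlgebraicClosure (ZMod p) ⊗[ZMod p] Additive V, inferInstance, inferInstance,
    inferInstance, bc.comp ρ₀, ?_, ?_⟩
  · intro x hx
    have h1 : bc (ρ₀ x) = bc 1 := by
      rw [map_one]; exact hx
    have h2 : ρ₀ x = 1 := by
      have hinj := LinearMap.baseChangeHom_injective (ZMod p) (Additive V)
        (AlgebraicClosure (ZMod p)) (N := Additive V)
      apply hinj
      exact h1
    ext v
    have h3 := hρ₀ x v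
    rw [h2] at h3
    exact (Additive.ofMul.injective h3).symm
  · intro S hS w hw
    apply eq_zero_of_baseChange_fixed (F := ZMod p) (k := AlgebraicClosure (ZMod p))
      (ρ₀ '' S) ?_ w ?_
    · intro m hm
      have h1 : m.toMul = 1 := by
        apply hS
        intro x hx
        have := hm (ρ₀ x) ⟨x, hx, rfl⟩
        exact congrArg Additive.toMul this
      exact congrArg Additive.ofMul h1
    · rintro f ⟨x, hx, rfl⟩
      exact hw x hx

/-- **The linearization** of an elementary abelian `p`-group: a faithful finite-dimensional
representation of its automorphism group over the algebraic closure of the prime field, in which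
sets of automorphisms without common fixed points have no common fixed vectors. -/
theorem exists_rep (p : ℕ) [hp : Fact p.Prime] (V : Type u) [Group V] [Finite V]
    (hcomm : ∀ a b : V, a * b = b * a) (hV : ∀ v : V, v ^ p = 1) :
    ∃ (W : Type u) (_ : AddCommGroup W) (_ : Module (AlgebraicClosure (ZMod p)) W)
      (_ : Module.Finite (AlgebraicClosure (ZMod p)) W)
      (ρ : Representation (AlgebraicClosure (ZMod p)) (MulAut V) W),
      (∀ x : MulAut V, ρ x = 1 → x = 1) ∧
      (∀ S : Set (MulAut V), (∀ v : V, (∀ x ∈ S, x v = v) → v = 1) →
        ∀ w : W, (∀ x ∈ S, ρ x w = w) → w = 0) := by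
  letI : CommGroup V := { (inferInstance : Group V) with mul_comm := hcomm }
  letI : Module (ZMod p) (Additive V) := AddCommGroup.zmodModule (n := p) (fun x => by
    change Additive.ofMul (x.toMul ^ p) = 0
    rw [hV]; rfl)
  exact exists_rep_aux p V

/-- the algebraic closure of the prime field has the same characteristic. -/
theorem charP_algClosure (p : ℕ) [hp : Fact p.Prime] : CharP (AlgebraicClosure (ZMod p)) p :=
  inferInstance

end Cfsg.Agent.Helper9.FpqBr
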