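import Cfsg.Agent.Lead.S3fBr2
import Cfsg.Agent.Lead.FpqWt
import Cfsg.Agent.Helper1.Coprime

/-!
S4306 (bridge): the group-level configuration (a non-abelian group of order `pq` generated by
`f` and `h` acting coprimely and without fixed points on the solvable group `G`) and its transfer
along homomorphisms, to invariant subgroups and to subgroups of the ambient group.
-/

set_option autoImplicit false
set_option linter.style.haveILetI false
set_option linter.unusedSectionVars false

namespace Cfsg.Agent.Helper9.FpqBr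

open Cfsg.Agent.Lead.S3F Cfsg.Agent.Lead.Fpq

universe u

variable {Γ : Type*} [Group Γ] {Γ' : Type*} [Group Γ']

/-- the configuration: `𝔸 = ⟨f, h⟩` is a quotient of a non-abelian group of order `pq` acting
coprimely and without fixed points on the solvable group `G`. -/
structure Cfg (p q m : ℕ) (G 𝔸 : Subgroup Γ) (f h : Γ) : Prop where
  gen : FrobGen p q m 𝔸 f h
  norm : 𝔸 ≤ Subgroup.normalizer (G : Set Γ)
  solv : Group.IsSolvable G
  cop : (Nat.card G).Coprime (p * q)
  fpf : ∀ g ∈ G, (∀ a ∈ 𝔸, a * g * a⁻¹ = g) → g = 1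

/-- the conclusion: Fitting height at most two, in terms of lower central series. -/
def FH2 (G : Subgroup Γ) : Prop :=
  ∃ c d : ℕ, (G.lowerCentralSeries c).lowerCentralSeries d = ⊥

namespace Cfg

variable {p q m : ℕ} {G 𝔸 : Subgroup Γ} {f h : Γ}

theorem coprimeA (c : Cfg p q m G 𝔸 f h) {X : Subgroup Γ} (hX : X ≤ G) :
    (Nat.card 𝔸).Coprime (Nat.card X) := by
  have h1 : (Nat.card X).Coprime (p * q) :=
    Nat.Coprime.coprime_dvd_left (Subgroup.card_dvd_of_le hX) c.cop
  exact Nat.Coprime.coprime_dvd_left c.gen.card h1.symm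

/-- fixed points in the image of a homomorphism are trivial. -/
theorem fpf_map [Finite Γ] (c : Cfg p q m G 𝔸 f h) (φ : Γ →* Γ') (g : Γ) (hg : g ∈ G)
    (h1 : ∀ a ∈ 𝔸, φ a * φ g * (φ a)⁻¹ = φ g) : φ g = 1 := by
  have hAG := c.norm
  obtain ⟨N, hN⟩ : ∃ N : Subgroup Γ, N = G ⊓ φ.ker := ⟨_, rfl⟩
  have hNG : N ≤ G := by rw [hN]; exact inf_le_left
  have hnorm : ∀ a ∈ Subgroup.normalizer (G : Set Γ), a ∈ Subgroup.normalizer (N : Set Γ) := by
    intro a ha
    apply mem_normalizer_of_conj_mem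
    intro x hx
    rw [hN] at hx ⊢
    replace hx := Subgroup.mem_inf.1 hx
    refine Subgroup.mem_inf.2 ⟨conj_mem_of_mem_normalizer' ha hx.1, ?_⟩
    exact (MonoidHom.normal_ker φ).conj_mem x hx.2 a
  have hfix : ∀ a ∈ 𝔸, a * g * a⁻¹ * g⁻¹ ∈ N := by
    intro a ha
    rw [hN]
    refine Subgroup.mem_inf.2
      ⟨G.mul_mem (conj_mem_of_mem_normalizer' (hAG ha) hg) (G.inv_mem hg), ?_⟩
    rw [MonoidHom.mem_ker]
    simp only [map_mul, map_inv]
    rw [h1 a ha, mul_inv_cancel]
  haveI := c.solv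
  obtain ⟨x, hx, hxN⟩ := Cfsg.Agent.Helper1.coprime_fixed_coset
    𝔸 G hAG (c.coprimeA le_rfl) (Or.inr c.solv) N hNG
    (fun a ha => hnorm a (Subgroup.le_normalizer ha)) (fun a ha => hnorm a (hAG ha)) g hg hfix
  replace hx := Subgroup.mem_inf.1 hx
  have hx1 : x = 1 := by
    have hcc := hx.2
    rw [Subgroup.mem_centralizer_iff] at hcc
    apply c.fpf x hx.1
    intro a ha
    have := hcc a ha
    rw [this]; group
  rw [hx1, mul_one, hN] at hxN
  have := (Subgroup.mem_inf.1 hxN).2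
  rw [MonoidHom.mem_ker, map_inv, inv_eq_one] at this
  exact this

/-- the image of a configuration. -/
theorem map [Finite Γ] (c : Cfg p q m G 𝔸 f h) (φ : Γ →* Γ') :
    Cfg p q m (G.map φ) (𝔸.map φ) (φ f) (φ h) := by
  haveI := c.solv
  refine ⟨c.gen.map φ, ?_, ?_, ?_, ?_⟩
  · exact (Subgroup.map_mono c.norm).trans (Subgroup.le_normalizer_map φ)
  · exact Group.isSolvable_of_surjective (f := φ.subgroupMap G) (φ.subgroupMap_surjective G)
  · exact Nat.Coprime.coprime_dvd_left (Subgroup.card_map_dvd G φ) c.cop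
  · rintro x ⟨g, hg, rfl⟩ h1
    apply c.fpf_map φ g hg
    intro a ha
    exact h1 (φ a) ⟨a, ha, rfl⟩

/-- an invariant subgroup of a configuration. -/
theorem sub (c : Cfg p q m G 𝔸 f h) {G₀ : Subgroup Γ} (hle : G₀ ≤ G)
    (hn : 𝔸 ≤ Subgroup.normalizer (G₀ : Set Γ)) : Cfg p q m G₀ 𝔸 f h := by
  haveI := c.solv
  refine ⟨c.gen, hn, ?_, ?_, ?_⟩
  · exact Group.isSolvable_of_isSolvable_injective (f := Subgroup.inclusion hle)
      (Subgroup.inclusion_injective hle)
  · exact Nat.Coprime.coprime_dvd_left (Subgroup.card_dvd_of_le hle) c.cop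
  · intro g hg
    exact c.fpf g (hle hg)

/-- a configuration seen inside a subgroup of the ambient group. -/
theorem comap_subtype (c : Cfg p q m G 𝔸 f h) (N : Subgroup Γ) (hGN : G ≤ N) (hAN : 𝔸 ≤ N) :
    Cfg p q m (G.subgroupOf N) (𝔸.subgroupOf N) (⟨f, hAN c.gen.f_mem⟩ : N)
      (⟨h, hAN c.gen.h_mem⟩ : N) := by
  haveI := c.solv
  have r := c.gen.toFrobRel
  refine ⟨⟨⟨r.hp, r.hq, ?_, ?_, ?_, r.ord, r.dvd⟩, ?_, ?_⟩, ?_, ?_, ?_, ?_⟩
  · apply Subtype.ext
    simpa using r.fp
  · apply Subtype.ext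
    simpa using r.hq1
  · apply Subtype.ext
    simpa using r.conj
  · apply Subgroup.map_injective N.subtype_injective
    rw [Subgroup.subgroupOf_map_subtype, inf_of_le_left hAN, MonoidHom.map_closure,
      Set.image_pair]
    exact c.gen.gen
  · rw [Nat.card_congr (Subgroup.subgroupOfEquivOfLe hAN).toEquiv]
    exact c.gen.card
  · intro a ha
    rw [Subgroup.mem_subgroupOf] at ha
    rw [Subgroup.mem_normalizer_iff]
    intro x
    rw [Subgroup.mem_subgroupOf, Subgroup.mem_subgroupOf]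
    exact Subgroup.mem_normalizer_iff.1 (c.norm ha) x
  · exact Group.isSolvable_of_isSolvable_injective
      (f := (Subgroup.subgroupOfEquivOfLe hGN).toMonoidHom)
      (Subgroup.subgroupOfEquivOfLe hGN).injective
  · rw [Nat.card_congr (Subgroup.subgroupOfEquivOfLe hGN).toEquiv]
    exact c.cop
  · intro g hg h1
    rw [Subgroup.mem_subgroupOf] at hg
    have := c.fpf g hg (by
      intro a ha
      have h2 := h1 ⟨a, hAN ha⟩ (Subgroup.mem_subgroupOf.2 ha)
      simpa using congrArg Subtype.val h2)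
    exact Subtype.ext this

end Cfg

/-- the conclusion transfers back from a subgroup of the ambient group. -/
theorem FH2.of_subgroupOf {G N : Subgroup Γ} (hGN : G ≤ N) (h : FH2 (G.subgroupOf N)) :
    FH2 G := by
  obtain ⟨c, d, hcd⟩ := h
  refine ⟨c, d, ?_⟩
  have h1 : (G.subgroupOf N).map N.subtype = G := by
    rw [Subgroup.subgroupOf_map_subtype, inf_of_le_left hGN]
  rw [← h1, ← Subgroup.map_lowerCentralSeries, ← Subgroup.map_lowerCentralSeries, hcd,
    Subgroup.map_bot]

end Cfsg.Agent.Helper9.FpqBr
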