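import Cfsg.Agent.Helper9.FpqBr.Step

/-!
S4306 (bridge): the induction on the order of `G` and the translation from an abstract action of
a non-abelian group of order `pq`, modulo the linear theorem and the presentation of the acting
group.
-/

set_option autoImplicit false
set_option linter.style.haveILetI false
set_option linter.unusedSectionVars false

namespace Cfsg.Agent.Helper9.FpqBr

open Cfsg.Agent.Lead.S3F Cfsg.Agent.Lead.Fpq

universe u u₁ u₂

/-- the induction on the order of `G`. -/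
theorem fh2_of_cfg_aux (hLin : LinHyp.{u}) (p q m : ℕ) : ∀ n : ℕ, ∀ (Γ : Type u) [Group Γ]
    [Finite Γ] (G 𝔸 : Subgroup Γ) (f h : Γ), Nat.card G = n → Cfg p q m G 𝔸 f h → FH2 G := by
  intro n
  induction n using Nat.strong_induction_on with
  | _ n ih =>
    intro Γ _ _ G 𝔸 f h hn hcfg
    by_cases hG : G = ⊥
    · refine ⟨0, 0, ?_⟩
      rw [Subgroup.lowerCentralSeries_zero, Subgroup.lowerCentralSeries_zero, hG]
    classical
    obtain ⟨𝒮, h𝒮⟩ : ∃ 𝒮 : Set (Subgroup Γ), 𝒮 = {U | U ≤ G ∧ U ≠ ⊥ ∧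
        (∀ g ∈ G, ∀ x ∈ U, g * x * g⁻¹ ∈ U) ∧ (∀ a ∈ 𝔸, ∀ x ∈ U, a * x * a⁻¹ ∈ U)} := ⟨_, rfl⟩
    have hG𝒮 : G ∈ 𝒮 := by
      rw [h𝒮]
      exact ⟨le_rfl, hG, fun g hg x hx => G.mul_mem (G.mul_mem hg hx) (G.inv_mem hg),
        fun a ha x hx => conj_mem_of_mem_normalizer' (hcfg.norm ha) hx⟩
    obtain ⟨V, hV𝒮, hVmin⟩ := WellFounded.has_min
      (measure (fun U : Subgroup Γ => Nat.card U)).wf 𝒮 ⟨G, hG𝒮⟩
    have hVmin' : ∀ U : Subgroup Γ, U ≤ V → U ≠ ⊥ → (∀ g ∈ G, ∀ x ∈ U, g * x * g⁻¹ ∈ U) →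
        (∀ a ∈ 𝔸, ∀ x ∈ U, a * x * a⁻¹ ∈ U) → V ≤ U := by
      intro U hUV hUne h1 h2
      have hU𝒮 : U ∈ 𝒮 := by
        rw [h𝒮] at hV𝒮 ⊢
        exact ⟨hUV.trans hV𝒮.1, hUne, h1, h2⟩
      have h4 : ¬ Nat.card U < Nat.card V := hVmin U hU𝒮
      have heq := Subgroup.eq_of_le_of_card_ge hUV (not_lt.1 h4)
      rw [heq]
    rw [h𝒮] at hV𝒮
    obtain ⟨hVG, hVne, hVGn, hVA⟩ := hV𝒮
    obtain ⟨N, hN⟩ : ∃ N : Subgroup Γ, N = Subgroup.normalizer (V : Set Γ) := ⟨_, rfl⟩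
    have hGN : G ≤ N := fun g hg => by
      rw [hN]; exact mem_normalizer_of_conj_mem V g (hVGn g hg)
    have hAN : 𝔸 ≤ N := fun a ha => by
      rw [hN]; exact mem_normalizer_of_conj_mem V a (hVA a ha)
    have hVN : V ≤ N := hVG.trans hGN
    have hcfg₁ := hcfg.comap_subtype N hGN hAN
    haveI : (V.subgroupOf N).Normal := by
      rw [hN]; exact Subgroup.normal_in_normalizer
    apply FH2.of_subgroupOf hGN
    apply step hLin (G.subgroupOf N) (V.subgroupOf N) (𝔸.subgroupOf N) _ _ p q m hcfg₁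
    · intro x hx
      rw [Subgroup.mem_subgroupOf] at hx ⊢
      exact hVG hx
    · intro hbot
      obtain ⟨v, hv1⟩ := (Subgroup.ne_bot_iff_exists_ne_one).1 hVne
      have h1 : (⟨v, hVN v.2⟩ : N) ∈ V.subgroupOf N := by
        rw [Subgroup.mem_subgroupOf]; exact v.2
      rw [hbot, Subgroup.mem_bot] at h1
      apply hv1
      apply Subtype.ext
      have h2 : ((⟨v, hVN v.2⟩ : N) : Γ) = ((1 : N) : Γ) := congrArg Subtype.val h1
      exact h2
    · intro U₁ hU₁V hU₁ne h1 h2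
      have h4 := hVmin' (U₁.map N.subtype) ?_ ?_ ?_ ?_
      · intro x hx
        rw [Subgroup.mem_subgroupOf] at hx
        obtain ⟨u, hu, hux⟩ := h4 hx
        have : u = x := Subtype.ext hux
        rwa [this] at hu
      · rintro _ ⟨u, hu, rfl⟩
        exact Subgroup.mem_subgroupOf.1 (hU₁V hu)
      · rw [Ne, Subgroup.map_eq_bot_iff_of_injective _ N.subtype_injective]
        exact hU₁ne
      · rintro g hg _ ⟨u, hu, rfl⟩
        exact ⟨⟨g, hGN hg⟩ * u * ⟨g, hGN hg⟩⁻¹,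
          h1 ⟨g, hGN hg⟩ (Subgroup.mem_subgroupOf.2 hg) u hu, rfl⟩
      · rintro a ha _ ⟨u, hu, rfl⟩
        exact ⟨⟨a, hAN ha⟩ * u * ⟨a, hAN ha⟩⁻¹,
          h2 ⟨a, hAN ha⟩ (Subgroup.mem_subgroupOf.2 ha) u hu, rfl⟩
    · intro Γ' _ _ G' 𝔸' f' h' hlt hcfg'
      have hcard : Nat.card (G.subgroupOf N) = n := by
        rw [Nat.card_congr (Subgroup.subgroupOfEquivOfLe hGN).toEquiv, hn]
      exact ih (Nat.card G') (by rw [← hcard]; exact hlt) Γ' G' 𝔸' f' h' rfl hcfg'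

/-- **The group-level theorem**, modulo the linear theorem. -/
theorem fh2_of_cfg (hLin : LinHyp.{u}) {Γ : Type u} [Group Γ] [Finite Γ] {p q m : ℕ}
    (G 𝔸 : Subgroup Γ) (f h : Γ) (hcfg : Cfg p q m G 𝔸 f h) : FH2 G :=
  fh2_of_cfg_aux hLin p q m _ Γ G 𝔸 f h rfl hcfg

/-- the presentation of a non-abelian group of order `pq`, as a hypothesis. -/
def GenHyp (A : Type u₂) [Group A] (p q : ℕ) : Prop :=
  ∃ (p' q' m : ℕ) (f h : A), p'.Prime ∧ q'.Prime ∧ p' * q' = p * q ∧ q' ∣ p' - 1 ∧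
    f ^ p' = 1 ∧ h ^ q' = 1 ∧ h * f * h⁻¹ = f ^ m ∧
    (∀ j : ℕ, ¬ q' ∣ j → ¬ (m ^ j ≡ 1 [MOD p'])) ∧ Subgroup.closure {f, h} = ⊤

/-- **S4306**, modulo the linear theorem and the presentation of the acting group: a finite
solvable group of order prime to `pq` on which a non-abelian group of order `pq` acts without
fixed points has a normal nilpotent subgroup with nilpotent quotient. -/
theorem fitting_height_le_two (hLin : LinHyp.{max u₁ u₂}) {G : Type u₁} {A : Type u₂} [Group G]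
    [Finite G] [Group.IsSolvable G] [Group A] [Finite A] [MulDistribMulAction A G] (p q : ℕ)
    (hA : Nat.card A = p * q) (hgen : GenHyp A p q) (hcop : (Nat.card G).Coprime (p * q))
    (hfpf : ∀ g : G, (∀ a : A, a • g = g) → g = 1) :
    ∃ F : Subgroup G, ∃ _ : F.Normal, Group.IsNilpotent ↥F ∧ Group.IsNilpotent (G ⧸ F) := by
  obtain ⟨φ, hφ⟩ : ∃ φ : A →* MulAut G, φ = MulDistribMulAction.toMulAut A G := ⟨_, rfl⟩
  have hφa : ∀ (a : A) (x : G), φ a x = a • x := fun a x => by rw [hφ]; rfl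
  haveI hfinX : Finite (G ⋊[φ] A) :=
    Finite.of_equiv _ (SemidirectProduct.equivProd (φ := φ)).symm
  obtain ⟨p', q', m, f, h, hp', hq', hpq', hdvd, hfp, hhq, hconj, hord, hcl⟩ := hgen
  obtain ⟨G₀, hG₀⟩ : ∃ G₀ : Subgroup (G ⋊[φ] A),
      G₀ = (SemidirectProduct.inl : G →* G ⋊[φ] A).range := ⟨_, rfl⟩
  obtain ⟨𝔸, h𝔸⟩ : ∃ 𝔸 : Subgroup (G ⋊[φ] A),
      𝔸 = (SemidirectProduct.inr : A →* G ⋊[φ] A).range := ⟨_, rfl⟩
  have eG : G ≃* G₀ := by
    rw [hG₀]; exact MonoidHom.ofInjective SemidirectProduct.inl_injective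
  have eA : A ≃* 𝔸 := by
    rw [h𝔸]; exact MonoidHom.ofInjective SemidirectProduct.inr_injective
  haveI hG₀n : G₀.Normal := by
    rw [hG₀, SemidirectProduct.range_inl_eq_ker_rightHom]
    exact MonoidHom.normal_ker _
  have hrel : FrobRel p' q' m f h := ⟨hp', hq', hfp, hhq, hconj, hord, hdvd⟩
  have hcfg : Cfg p' q' m G₀ 𝔸 (SemidirectProduct.inr f : G ⋊[φ] A)
      (SemidirectProduct.inr h) := by
    refine ⟨⟨hrel.map _, ?_, ?_⟩, ?_, ?_, ?_, ?_⟩
    · rw [h𝔸, MonoidHom.range_eq_map, ← hcl, MonoidHom.map_closure, Set.image_pair]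
    · rw [← Nat.card_congr eA.toEquiv, hA, hpq']
    · rw [Subgroup.normalizer_eq_top]; exact le_top
    · exact Group.isSolvable_of_surjective (f := eG.toMonoidHom) eG.surjective
    · rw [← Nat.card_congr eG.toEquiv, hpq']; exact hcop
    · intro x hx h1
      rw [hG₀] at hx
      obtain ⟨g, rfl⟩ := hx
      have hg : g = 1 := by
        apply hfpf
        intro a
        apply SemidirectProduct.inl_injective (φ := φ)
        rw [← hφa, SemidirectProduct.inl_aut, map_inv]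
        exact h1 _ (by rw [h𝔸]; exact ⟨a, rfl⟩)
      rw [hg, map_one]
  obtain ⟨c, d, hcd⟩ := fh2_of_cfg hLin G₀ 𝔸 _ _ hcfg
  have h1 : G₀ = (⊤ : Subgroup G).map (SemidirectProduct.inl : G →* G ⋊[φ] A) := by
    rw [hG₀, MonoidHom.range_eq_map]
  rw [h1, ← Subgroup.map_lowerCentralSeries, ← Subgroup.map_lowerCentralSeries,
    Subgroup.map_eq_bot_iff_of_injective _ SemidirectProduct.inl_injective] at hcd
  refine ⟨(⊤ : Subgroup G).lowerCentralSeries c, inferInstance,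
    Subgroup.isNilpotent_of_lowerCentralSeries_eq_bot hcd, ?_⟩
  rw [Subgroup.nilpotent_iff_lowerCentralSeries]
  refine ⟨c, ?_⟩
  have h2 : (⊤ : Subgroup (G ⧸ (⊤ : Subgroup G).lowerCentralSeries c)) =
      (⊤ : Subgroup G).map (QuotientGroup.mk' ((⊤ : Subgroup G).lowerCentralSeries c)) := by
    rw [← MonoidHom.range_eq_map]
    exact (MonoidHom.range_eq_top.2 (QuotientGroup.mk'_surjective _)).symm
  rw [h2, ← Subgroup.map_lowerCentralSeries, Subgroup.map_eq_bot_iff, QuotientGroup.ker_mk']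

end Cfsg.Agent.Helper9.FpqBr
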