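import Cfsg.Agent.Helper9.FpqBr.Rep
import Cfsg.Agent.Helper9.FpqBr.Cfg
import Cfsg.Agent.Helper9.FpqBr.Nilp

/-!
S4306 (bridge): the linear theorem as a hypothesis, and the inductive step for a minimal normal
invariant subgroup that is normal in the ambient group.
-/

set_option autoImplicit false
set_option linter.style.haveILetI false
set_option linter.unusedSectionVars false

namespace Cfsg.Agent.Helper9.FpqBr

open Cfsg.Agent.Lead.S3F Cfsg.Agent.Lead.Fpq

universe u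

open scoped commutatorElement

/-- **The linear theorem**, as a hypothesis: in a minimal configuration acting faithfully and
irreducibly on a finite-dimensional module over an algebraically closed field of characteristic
`r`, the group `H` is nilpotent. -/
def LinHyp : Prop :=
  ∀ (k : Type) [Field k] [IsAlgClosed k] (r : ℕ) [Fact r.Prime] [CharP k r]
    (Γ : Type u) [Group Γ] [Finite Γ] (W : Type u) [AddCommGroup W] [Module k W]
    [Module.Finite k W] (ρ : Representation k Γ W) (p q m : ℕ) (𝔸 : Subgroup Γ) (f h : Γ),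
    FrobGen p q m 𝔸 f h →
    (∀ w : W, (∀ a ∈ 𝔸, ρ a w = w) → w = 0) →
    ∀ H : Subgroup Γ, 𝔸 ≤ Subgroup.normalizer (H : Set Γ) →
    Group.IsSolvable H → (Nat.card H).Coprime (p * q) → r.Coprime (p * q) →
    (∀ x ∈ H, (∀ a ∈ 𝔸, a * x * a⁻¹ = x) → x = 1) →
    (∀ x ∈ H, ρ x = 1 → x = 1) →
    (∀ E : Subgroup Γ, E ≤ H → E ≠ ⊥ → (∀ g ∈ H, ∀ x ∈ E, g * x * g⁻¹ ∈ E) →
      𝔸 ≤ Subgroup.normalizer (E : Set Γ) → ∀ w : W, (∀ e ∈ E, ρ e w = w) → w = 0) →
    (∀ P : Subgroup Γ, P ≤ H → (∀ g ∈ H, ∀ x ∈ P, g * x * g⁻¹ ∈ P) →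
      𝔸 ≤ Subgroup.normalizer (P : Set Γ) → IsPGroup r P → P = ⊥) →
    (∀ H₀ : Subgroup Γ, H₀ ≤ H → H₀ ≠ H → 𝔸 ≤ Subgroup.normalizer (H₀ : Set Γ) →
      ∃ c : ℕ, IsPGroup r (H₀.lowerCentralSeries c)) →
    ∃ c : ℕ, H.lowerCentralSeries c = ⊥

/-- the inductive step. -/
theorem step (hLin : LinHyp.{u}) {Γ : Type u} [Group Γ] [Finite Γ] (G V 𝔸 : Subgroup Γ)
    [hVn : V.Normal] (f h : Γ) (p q m : ℕ)
    (hcfg : Cfg p q m G 𝔸 f h) (hVG : V ≤ G) (hVne : V ≠ ⊥)
    (hVmin : ∀ U : Subgroup Γ, U ≤ V → U ≠ ⊥ → (∀ g ∈ G, ∀ x ∈ U, g * x * g⁻¹ ∈ U) →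
      (∀ a ∈ 𝔸, ∀ x ∈ U, a * x * a⁻¹ ∈ U) → V ≤ U)
    (IH : ∀ (Γ' : Type u) [Group Γ'] [Finite Γ'] (G' 𝔸' : Subgroup Γ') (f' h' : Γ'),
      Nat.card G' < Nat.card G → Cfg p q m G' 𝔸' f' h' → FH2 G') :
    FH2 G := by
  classical
  haveI := hcfg.solv
  have hVs : Group.IsSolvable V :=
    Group.isSolvable_of_isSolvable_injective (f := Subgroup.inclusion hVG)
      (Subgroup.inclusion_injective hVG)
  obtain ⟨r, hr, hrV, hVc, hVp⟩ := elementary_of_minimal V hVs hVne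
    (fun U hUn hUV hUne => hVmin U hUV hUne (fun g _ x hx => hUn.conj_mem x hx g)
      (fun a _ x hx => hUn.conj_mem x hx a))
  haveI : Fact r.Prime := ⟨hr⟩
  have hrpq : r.Coprime (p * q) :=
    Nat.Coprime.coprime_dvd_left (hrV.trans (Subgroup.card_dvd_of_le hVG)) hcfg.cop
  obtain ⟨W, iW1, iW2, iW3, ρ, hfaith, hfixρ⟩ := exists_rep r V
    (fun a b => Subtype.ext (hVc a a.2 b b.2))
    (fun v => Subtype.ext (by
      rw [Subgroup.coe_pow, Subgroup.coe_one]; exact hVp v v.2))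
  obtain ⟨φ, hφ⟩ : ∃ φ : Γ →* MulAut V, φ = MulAut.conjNormal := ⟨_, rfl⟩
  have hφa : ∀ (g : Γ) (v : V), ((φ g) v : Γ) = g * v * g⁻¹ := by
    intro g v; rw [hφ, MulAut.conjNormal_apply]
  have hφ1 : ∀ g, φ g = 1 → ∀ v ∈ V, g * v * g⁻¹ = v := by
    intro g hg v hv
    have := hφa g ⟨v, hv⟩
    rw [hg, MulAut.one_apply] at this
    exact this.symm
  have hcfgH := hcfg.map φ
  obtain ⟨H, hH⟩ : ∃ H : Subgroup (MulAut V), H = G.map φ := ⟨_, rfl⟩
  obtain ⟨𝔹, h𝔹⟩ : ∃ 𝔹 : Subgroup (MulAut V), 𝔹 = 𝔸.map φ := ⟨_, rfl⟩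
  rw [← hH, ← h𝔹] at hcfgH
  -- fixed points
  have hfix : ∀ w : W, (∀ a ∈ 𝔹, ρ a w = w) → w = 0 := by
    intro w hw
    refine hfixρ (𝔹 : Set (MulAut V)) ?_ w hw
    intro v hv
    have := hcfg.fpf v (hVG v.2) (by
      intro a ha
      have h3 := hv (φ a) (by rw [h𝔹]; exact ⟨a, ha, rfl⟩)
      rw [← hφa, h3])
    exact Subtype.ext this
  -- invariant subgroups of automorphisms with nontrivial fixed points are trivial
  have hminE : ∀ E : Subgroup (MulAut V), (∀ g ∈ H, ∀ x ∈ E, g * x * g⁻¹ ∈ E) →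
      𝔹 ≤ Subgroup.normalizer (E : Set (MulAut V)) →
      fixV V (E : Set (MulAut V)) ≠ ⊥ → E = ⊥ := by
    intro E hEn hAE hne
    have hV := hVmin (fixV V (E : Set (MulAut V))) (fixV_le V _) hne ?_ ?_
    · rw [eq_bot_iff]
      intro e he
      rw [Subgroup.mem_bot]
      exact eq_one_of_le_fixV V _ hV e he
    · intro g hg
      apply conj_mem_fixV
      intro e he
      have h1 : (φ g)⁻¹ ∈ H := by
        rw [hH]; exact Subgroup.inv_mem _ ⟨g, hg, rfl⟩
      have := hEn _ h1 e he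
      rw [inv_inv] at this
      rw [← hφ]; exact this
    · intro a ha
      apply conj_mem_fixV
      intro e he
      have haE : φ a ∈ Subgroup.normalizer (E : Set (MulAut V)) :=
        hAE (by rw [h𝔹]; exact ⟨a, ha, rfl⟩)
      have := conj_mem_of_mem_normalizer' (Subgroup.inv_mem _ haE) he
      rw [inv_inv] at this
      rw [← hφ]; exact this
  have hIrr : ∀ E : Subgroup (MulAut V), E ≤ H → E ≠ ⊥ → (∀ g ∈ H, ∀ x ∈ E, g * x * g⁻¹ ∈ E) →
      𝔹 ≤ Subgroup.normalizer (E : Set (MulAut V)) →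
      ∀ w : W, (∀ e ∈ E, ρ e w = w) → w = 0 := by
    intro E _ hEne hEn hAE w hw
    refine hfixρ (E : Set (MulAut V)) ?_ w hw
    intro v hv
    by_contra hv1
    apply hEne
    apply hminE E hEn hAE
    intro hbot
    have h1 : (v : Γ) ∈ fixV V (E : Set (MulAut V)) := ⟨v.2, fun e he => hv e he⟩
    rw [hbot, Subgroup.mem_bot] at h1
    exact hv1 (Subtype.ext h1)
  have hOp : ∀ P : Subgroup (MulAut V), P ≤ H → (∀ g ∈ H, ∀ x ∈ P, g * x * g⁻¹ ∈ P) →
      𝔹 ≤ Subgroup.normalizer (P : Set (MulAut V)) → IsPGroup r P → P = ⊥ := by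
    intro P _ hPn hAP hPp
    apply hminE P hPn hAP
    have h1 : (1 : V) ∈ MulAction.fixedPoints P V := fun e => map_one (e : MulAut V)
    obtain ⟨b, hb, hb1⟩ := hPp.exists_fixed_point_of_prime_dvd_card_of_fixed_point V hrV h1
    intro hbot
    have h2 : (b : Γ) ∈ fixV V (P : Set (MulAut V)) := ⟨b.2, fun e he => hb ⟨e, he⟩⟩
    rw [hbot, Subgroup.mem_bot] at h2
    exact hb1 (Subtype.ext h2.symm)
  have hMin : ∀ H₀ : Subgroup (MulAut V), H₀ ≤ H → H₀ ≠ H →
      𝔹 ≤ Subgroup.normalizer (H₀ : Set (MulAut V)) →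
      ∃ c : ℕ, IsPGroup r (H₀.lowerCentralSeries c) := by
    intro H₀ hH₀ hne hA₀
    obtain ⟨G₀, hG₀⟩ : ∃ G₀ : Subgroup Γ, G₀ = G ⊓ H₀.comap φ := ⟨_, rfl⟩
    have hG₀G : G₀ ≤ G := by rw [hG₀]; exact inf_le_left
    have hmap : G₀.map φ = H₀ := by
      apply le_antisymm
      · rintro _ ⟨g, hg, rfl⟩
        rw [hG₀] at hg
        exact (Subgroup.mem_inf.1 hg).2
      · intro x hx
        have := hH₀ hx
        rw [hH] at this
        obtain ⟨g, hg, rfl⟩ := this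
        refine ⟨g, ?_, rfl⟩
        rw [hG₀]
        exact Subgroup.mem_inf.2 ⟨hg, hx⟩
    have hlt : Nat.card G₀ < Nat.card G := by
      by_contra hge
      push Not at hge
      have := Subgroup.eq_of_le_of_card_ge hG₀G hge
      apply hne
      rw [← hmap, this, hH]
    have hnorm : 𝔸 ≤ Subgroup.normalizer (G₀ : Set Γ) := by
      intro a ha
      have ha' : φ a ∈ Subgroup.normalizer (H₀ : Set (MulAut V)) :=
        hA₀ (by rw [h𝔹]; exact ⟨a, ha, rfl⟩)
      apply mem_normalizer_of_conj_mem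
      intro x hx
      rw [hG₀] at hx ⊢
      replace hx := Subgroup.mem_inf.1 hx
      refine Subgroup.mem_inf.2 ⟨conj_mem_of_mem_normalizer' (hcfg.norm ha) hx.1, ?_⟩
      rw [Subgroup.mem_comap]
      simp only [map_mul, map_inv]
      exact conj_mem_of_mem_normalizer' ha' hx.2
    have hcfg₀ : Cfg p q m G₀ 𝔸 f h := hcfg.sub hG₀G hnorm
    obtain ⟨c, d, hcd⟩ := IH Γ G₀ 𝔸 f h hlt hcfg₀
    have hVG₀ : V ≤ G₀ := by
      intro v hv
      rw [hG₀]
      refine Subgroup.mem_inf.2 ⟨hVG hv, ?_⟩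
      rw [Subgroup.mem_comap]
      have : φ v = 1 := by
        ext u
        rw [hφa, MulAut.one_apply, hVc v hv u u.2]
        group
      rw [this]
      exact H₀.one_mem
    have hVK : V ≤ Subgroup.normalizer ((G₀.lowerCentralSeries c : Subgroup Γ) : Set Γ) :=
      hVG₀.trans (G₀.self_le_normalizer_lowerCentralSeries c)
    have := isPGroup_map_conjNormal V hVc hVp (G₀.lowerCentralSeries c) hVK ⟨d, hcd⟩
    rw [← hφ, Subgroup.map_lowerCentralSeries, hmap] at this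
    exact ⟨c, this⟩
  obtain ⟨c1, hc1⟩ := hLin (AlgebraicClosure (ZMod r)) r (MulAut V) W ρ p q m 𝔹 (φ f) (φ h)
    hcfgH.gen hfix H hcfgH.norm hcfgH.solv hcfgH.cop hrpq hcfgH.fpf (fun x _ => hfaith x)
    hIrr hOp hMin
  -- a term of the lower central series centralizes `V`
  have hKV : ∀ x ∈ G.lowerCentralSeries c1, ∀ v ∈ V, x * v * x⁻¹ = v := by
    have h1 : (G.lowerCentralSeries c1).map φ = ⊥ := by
      rw [Subgroup.map_lowerCentralSeries, ← hH]; exact hc1
    intro x hx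
    have h2 : φ x ∈ (G.lowerCentralSeries c1).map φ := ⟨x, hx, rfl⟩
    rw [h1, Subgroup.mem_bot] at h2
    exact hφ1 x h2
  -- the quotient
  obtain ⟨π, hπ⟩ : ∃ π : Γ →* Γ ⧸ V, π = QuotientGroup.mk' V := ⟨_, rfl⟩
  have hcfgQ := hcfg.map π
  have hlt : Nat.card (G.map π) < Nat.card G := by
    by_contra hge
    push Not at hge
    have hbij := Function.Surjective.bijective_of_nat_card_le
      (π.subgroupMap_surjective G) hge
    obtain ⟨v, hv1⟩ := (Subgroup.ne_bot_iff_exists_ne_one).1 hVne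
    have h1 : π.subgroupMap G ⟨v, hVG v.2⟩ = π.subgroupMap G 1 := by
      apply Subtype.ext
      rw [map_one]
      change π (v : Γ) = 1
      rw [hπ, QuotientGroup.mk'_apply, QuotientGroup.eq_one_iff]
      exact v.2
    have h2 := hbij.1 h1
    apply hv1
    have h3 := congrArg Subtype.val h2
    exact Subtype.ext h3
  obtain ⟨c2, d, hcd⟩ := IH (Γ ⧸ V) (G.map π) (𝔸.map π) (π f) (π h) hlt hcfgQ
  have h2 : (G.lowerCentralSeries c2).lowerCentralSeries d ≤ V := by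
    have h3 : ((G.lowerCentralSeries c2).lowerCentralSeries d).map π = ⊥ := by
      rw [Subgroup.map_lowerCentralSeries, Subgroup.map_lowerCentralSeries]; exact hcd
    have := (Subgroup.map_eq_bot_iff _).1 h3
    rwa [hπ, QuotientGroup.ker_mk'] at this
  refine ⟨max c1 c2, d + 1, ?_⟩
  have hle1 : G.lowerCentralSeries (max c1 c2) ≤ G.lowerCentralSeries c1 :=
    G.lowerCentralSeries_antitone (le_max_left c1 c2)
  have hle2 : G.lowerCentralSeries (max c1 c2) ≤ G.lowerCentralSeries c2 :=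
    G.lowerCentralSeries_antitone (le_max_right c1 c2)
  have h4 : (G.lowerCentralSeries (max c1 c2)).lowerCentralSeries d ≤ V :=
    (Subgroup.lowerCentralSeries_mono d hle2).trans h2
  rw [Subgroup.lowerCentralSeries_succ, Subgroup.commutator_eq_bot_iff_le_centralizer]
  intro x hx
  rw [Subgroup.mem_centralizer_iff]
  intro y hy
  have := hKV y (hle1 hy) x (h4 hx)
  calc y * x = (y * x * y⁻¹) * y := by group
    _ = x * y := by rw [this]

end Cfsg.Agent.Helper9.FpqBr
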